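import Mathlib
import Cfsg.Agent.Lib.MultC.Co1.P2N

/-! generated certificate -/

set_option autoImplicit false
set_option maxRecDepth 100000
set_option Elab.async false

namespace CfsgLib.MultC.Co1.P2

open CfsgLib.Comput CfsgLib.MultC

theorem r0 : D.consAll 16 R0 = true := by decide +kernel
theorem r1 : D.fusAll 16 R1 = true := by decide +kernel
theorem xw0 : wordOK 98280 17 U x0 [0x4050506050209090c0e0f171616121813191a1b1d1b22] = true := by decide +kernel
theorem xw1 : wordOK 98280 17 U x1 [0x1060603041010100f0c0f1511181415161f1e1f1919212221] = true := by decide +kernel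
theorem xw2 : wordOK 98280 17 U x2 [0x5030502020101100b0d0d0d1713141818121c1e1f19192221] = true := by decide +kernel
theorem xw3 : wordOK 98280 17 U x3 [0x503030404070b0e0c1009141814161d1e1f1c19192122] = true := by decide +kernel
theorem xw4 : wordOK 98280 17 U x4 [0x6060104030501090d0b0a09111717131f1f1f1e1a2221] = true := by decide +kernel
theorem xw5 : wordOK 98280 17 U x5 [0x2070208020e0a0a0f0f0b121218111411201c201d212221] = true := by decide +kernel
theorem xw6 : wordOK 98280 17 U x6 [0x4070407070d090d0b0f09131518151d1e1b201b22] = true := by decide +kernel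
theorem xw7 : wordOK 98280 17 U x7 [0x60701070101100d0e0c0c151514151112201d1d1b1f1922] = true := by decide +kernel
theorem xw8 : wordOK 98280 17 U x8 [0x60708080801020e0d0e0e1712151314111b1e1a1f1b] = true := by decide +kernel
theorem xw9 : wordOK 98280 17 U x9 [0x306010804040b0f09090f091318141314111b1a1b1e19] = true := by decide +kernel
theorem xw10 : wordOK 98280 17 U x10 [0x2070208020c10100a0b1413161613121c1f1b1f1b21] = true := by decide +kernel
theorem xw11 : wordOK 98280 17 U x11 [0x40307020504010b0f0f0e0b0c1518131814131b1a201a2122] = true := by decide +kernel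
theorem xw12 : wordOK 98280 17 U x12 [0x704040505020c0c0e0c0c0912181212131a201b1a212221] = true := by decide +kernel
theorem xw13 : wordOK 98280 17 U x13 [0x406040304070b0f0a0f0c0918111713141e191d2021] = true := by decide +kernel
theorem xw14 : wordOK 98280 17 U x14 [0x706020604040b0d0a0a0d0a1515111712201d1d1a212221] = true := by decide +kernel
theorem xw15 : wordOK 98280 17 U x15 [0x801080807040b10090c0c121317141d19191a212221] = true := by decide +kernel
theorem xw16 : wordOK 98280 17 U x16 [0x30403050805090a0b0c0c1118131512191d22] = true := by decide +kernel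
theorem xw17 : wordOK 98280 17 U x17 [0x606050407010e0b0b0f131712121213191d201f1921] = true := by decide +kernel
theorem xw18 : wordOK 98280 17 U x18 [0x603020604060a0f0b0f151213161319191d191d22] = true := by decide +kernel
theorem xw19 : wordOK 98280 17 U x19 [0x1040802070c0c090c0c091418141513201f1a1d21] = true := by decide +kernel
theorem xw20 : wordOK 98280 17 U x20 [0x504040404040d0d090e0c0912131416161a191c1d1922] = true := by decide +kernel
theorem xw21 : wordOK 98280 17 U x21 [0x5060707020d090e0b0b1318171415111a1f1b20192221] = true := by decide +kernel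
theorem xw22 : wordOK 98280 17 U x22 [0x10606020804010d0b0e0e090c17121711171e1b201d1919] = true := by decide +kernel
theorem xw23 : wordOK 98280 17 U x23 [0x4070401010d0d0c090f0a12181317121a201c20192122] = true := by decide +kernel
theorem xw24 : wordOK 98280 17 U x24 [0x2070208020a10090d0e0914151511121b1c1b1c21] = true := by decide +kernel
theorem c1_0 : allRg (D.rowChk (stepT 98280 17 X) (idTab 98280 17)) 0 4 = true := by decide +kernel
theorem c1_1 : allRg (D.rowChk (stepT 98280 17 X) (idTab 98280 17)) 4 2 = true := by decide +kernel
theorem c1_2 : allRg (D.rowChk (stepT 98280 17 X) (idTab 98280 17)) 6 1 = true := by decide +kernel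
theorem c1_3 : allRg (D.rowChk (stepT 98280 17 X) (idTab 98280 17)) 7 1 = true := by decide +kernel
theorem c1_4 : allRg (D.rowChk (stepT 98280 17 X) (idTab 98280 17)) 8 1 = true := by decide +kernel
theorem c1_5 : allRg (D.rowChk (stepT 98280 17 X) (idTab 98280 17)) 9 1 = true := by decide +kernel
theorem c1_6 : allRg (D.rowChk (stepT 98280 17 X) (idTab 98280 17)) 10 1 = true := by decide +kernel
theorem c1_7 : allRg (D.rowChk (stepT 98280 17 X) (idTab 98280 17)) 11 1 = true := by decide +kernel
theorem c1_8 : allRg (D.rowChk (stepT 98280 17 X) (idTab 98280 17)) 12 1 = true := by decide +kernel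
theorem c1_9 : allRg (D.rowChk (stepT 98280 17 X) (idTab 98280 17)) 13 1 = true := by decide +kernel
theorem c1_10 : allRg (D.rowChk (stepT 98280 17 X) (idTab 98280 17)) 14 1 = true := by decide +kernel
theorem c1_11 : allRg (D.rowChk (stepT 98280 17 X) (idTab 98280 17)) 15 1 = true := by decide +kernel
theorem c1_12 : allRg (D.rowChk (stepT 98280 17 X) (idTab 98280 17)) 16 1 = true := by decide +kernel
theorem c1_13 : allRg (D.rowChk (stepT 98280 17 X) (idTab 98280 17)) 17 1 = true := by decide +kernel
theorem c1_14 : allRg (D.rowChk (stepT 98280 17 X) (idTab 98280 17)) 18 1 = true := by decide +kernel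
theorem c1_15 : allRg (D.rowChk (stepT 98280 17 X) (idTab 98280 17)) 19 1 = true := by decide +kernel

end CfsgLib.MultC.Co1.P2
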