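import Mathlib
import Cfsg.Agent.Lib.MultC.Co1.OutD

/-! generated certificate -/

set_option autoImplicit false
set_option maxRecDepth 100000
set_option Elab.async false

namespace CfsgLib.MultC.Co1.O

open CfsgLib.Comput CfsgLib.MultC

open CfsgLib.Fischer

noncomputable def tl338 : CT :=
  (.cat (.ch 32151 0x405070506010607 (.ref 0x20202 0 1) (.ch 32224 0x4060702020208 (.ref 2 0 1) (.ch 32316 0x406020101080106 (.ref 0x202 0 1) (.ch 32397 0x405080406 (.ref 0x202 0 1) (.ch 32441 0x8060107020202 (.ref 0x20202 0 1) (.ch 32454 0x4080402080508 (.ref 0x202 0 1) (.ch 32530 0x40704040601 (.ref 0x202 0 1) (.ch 32761 0x407060204080802 (.ref 0x20202 0 0) (.ch 32824 0x406080506070408 (.ref 2 0 1) (.ch 32832 0x50607070604 (.ref 2 0 1) (.ch 32855 0x2010106010808 (.ref 2 0 1) (.ch 32858 0x7040504080806 (.ref 2 0 1) (.ch 32905 0x8040506070208 (.ref 2 0 1) (.ch 32910 0x5050707020802 (.ref 0x202 0 1) (.ch 32964 0x70201020208 (.ref 2 0 1) (.ch 33097 0x20107060702 (.ref 2 0 1) (.ch 33284 0x80207010207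 (.ref 2 0 1) (.ch 33387 0x404050802070507 (.ref 2 0 1) (.ch 33388 0x80607070501 (.ref 2 0 1) (.ch 33425 0x5050406020702 (.ref 0x202020202 0 1) .nil))))))))))))))))))))
 (.ch 33489 0x5060705080207 (.ref 2 0 1) (.ch 33621 0x2080507070101 (.ref 2 0 1) (.ch 33629 0x406020702040604 (.ref 2 0 1) (.ch 33677 0x1010801070101 (.ref 0x202 0 1) (.ch 33681 0x70108040506 (.ref 0x202 0 1) (.ch 33698 0x608050408080102 (.ref 0x202 0 1) (.ch 33716 0x406020702080408 (.ref 0x202 0 1) (.ch 33723 0x4070505060102 (.ref 0x202 0 1) (.ch 33725 0x8060207040608 (.ref 0x202 0 1) (.ch 33727 0x20808060702 (.ref 0x202 0 1) (.ch 33770 0x60407050407 (.ref 2 0 1) (.ch 33924 0x404060402070604 (.ref 2 0 1) (.ch 33979 0x404080806070408 (.ref 0x202 0 1) (.ch 34039 0x402080404060707 (.ref 0x20202 0 0) (.ch 34051 0x60808010701 (.ref 0x20202 0 1) (.ch 34093 0x40808050805 (.ref 2 0 1) (.ch 34190 0x8080508040207 (.ref 2 0 1) (.ch 34256 0x8020707020707 (.ref 0x202 0 1) (.ch 34605 0x8010706020207 (.ref 2 0 1) (.ch 34651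 0x1010506040805 (.ref 2 0 1) (.ch 34685 0x4020707060405 (.ref 2 0 1) .nil))))))))))))))))))))))
theorem cl338 : CT.chk (stepH W) 98280 (msk ml) D.V tl338 true L0 [] [] = true := by decide +kernel
noncomputable def tl339 : CT :=
  (.cat (.ch 34695 0x5060804050604 (.ref 0x202 0 1) (.ch 34697 0x1080402070508 (.ref 2 0 1) (.ch 34734 0x50102070602 (.ref 2 0 1) (.ch 34929 0x8080405040604 (.ref 2 0 1) (.ch 34966 0x2040608040706 (.ref 0x202 0 1) (.ch 35037 0x5010202010607 (.ref 0x202 0 1) (.ch 35067 0x60707020402 (.ref 2 0 1) (.ch 35098 0x408040504020806 (.ref 0x202 0 1) (.ch 35126 0x5070701050801 (.ref 0x2020202 0 1) (.ch 35210 0x7060106040505 (.ref 2 0 1) (.ch 35394 0x2070508050804 (.ref 2 0 1) (.ch 35399 0x2020806070105 (.ref 2 0 1) (.ch 35443 0x60407010602 (.ref 0x202 0 1) (.ch 35463 0x6020802080505 (.ref 0x202 0 1) (.ch 35468 0x601060107 (.ref 2 0 1) (.cy 35522 2 (.ch 35563 0x10806080601 (.ref 2 0 1) (.ch 35615 0x80504020808 (.ref 0x20202 0 0) (.ch 35730 0x4040607070604 (.ref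 0x202 0 1) (.ch 35791 0x10202070506 (.ref 0x2020202 0 1) (.ch 35858 0x4020804070101 (.ref 2 0 1) .nil)))))))))))))))))))))
 (.ch 35965 0x1060407070706 (.ref 0x20202 0 1) (.ch 36003 0x7020705080207 (.ref 2 0 1) (.ch 36066 0x5050501050706 (.ref 0x20202 0 1) (.ch 36076 0x20805070706 (.ref 0x20202 0 1) (.ch 36107 0x50805070505 (.ref 0x202 0 1) (.ch 36181 0x1060805080506 (.ref 2 0 1) (.ch 36238 0x402020802 (.ref 2 0 1) (.ch 36377 0x405040208080106 (.ref 2 0 1) (.ch 36419 0x4040508040601 (.ref 2 0 1) (.ch 36421 0x4050601060704 (.ref 0x20202 0 0) (.ch 36529 0x5070108080405 (.ref 0x202 0 1) (.ch 36608 0x40602020808 (.ref 2 0 1) (.ch 36695 0x4070101070608 (.ref 2 0 1) (.ch 36786 0x504070405060805 (.ref 0x2020202 0 1) (.ch 37024 0x6020108060201 (.ref 0x20202 0 1) (.ch 37210 0x406080608080202 (.ref 2 0 1) (.ch 37512 0x5080505060406 (.ref 2 0 1) (.ch 37592 0x60404060402 (.ref 0x202 0 1) (.ch 37713 0x407050501080608 (.ref 0x202 0 1) (.ch 37898 0x102020102 (.ref 2 0 1) (.ch 37970 0x7060102020806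 (.ref 2 0 1) .nil))))))))))))))))))))))
theorem cl339 : CT.chk (stepH W) 98280 (msk ml) D.V tl339 true L0 [] [] = true := by decide +kernel
noncomputable def tl340 : CT :=
  (.ch 38048 0x10105050702 (.ref 2 0 1) (.ch 38898 0x1060108050506 (.ref 0x20202 0 0) (.ch 39237 0x1080202070202 (.ref 0x20202 0 1) (.ch 39308 0x1020201080506 (.frc 2 0 46986 0xa09090e09090c (.frc 0x202 0 60365 0x120f13130f10 (.ref 2 0 4))) (.ch 39607 0x406010701060202 (.ref 2 0 1) (.ch 39937 0x8010208 (.ref 2 0 1) (.ch 40362 0x1010806020102 (.ref 0x202 0 1) (.ch 40382 0x40607070402 (.ref 2 0 1) (.ch 40446 0x208060207 (.ref 0x20202 0 1) (.ch 40515 0x4020801050107 (.ref 2 0 1) (.ch 40840 0x5010501070107 (.ref 2 0 1) (.ch 40852 0x408010801080202 (.ref 0x202 0 1) (.ch 41556 0x4020705070405 (.ref 0x202 0 1) (.ch 41834 0x405050707070601 (.ref 2 0 1) (.ch 42115 0x4060102080806 (.ref 2 0 1) (.ch 42432 0x20801050108 (.ref 2 0 1) (.ch 42880 0x50107070105 (.ref 0x2020202 0 0) (.ch 43668 0x604080804040406 (.ref 2 0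 1) (.ch 44160 0x70705060402 (.ref 0x202 0 1) (.cy 44450 2 (.ch 44466 0x4050601060405 (.ref 2 0 1) (.ch 44508 0x1070704040701 (.ref 2 0 1) (.ch 44647 0x60407050604 (.ref 2 0 1) (.ch 45211 0x6010701070504 (.ref 0x202 0 1) (.ch 45712 0x4050808080201 (.ref 2 0 1) (.ch 45792 0x20808080204 (.ref 0x2020202 0 1) (.ch 46987 0x20202080602 (.ref 0x20202 0 0) (.ch 53119 0x7010108050706 (.ref 2 0 1) (.cy 56282 2 (.ch 68019 0x4080106010604 (.frc 2 0 90939 0xe0b0a0a0a0a0a (.ref 2 0 0)) (.cy 75691 2 (.cy 82734 2 (.cy 85098 2 .nil)))))))))))))))))))))))))))))))))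
theorem cl340 : CT.chk (stepH W) 98280 (msk ml) D.V tl340 true L0 [] [] = true := by decide +kernel
theorem cand0 : allIn (D.candOK (stepH W) 98280) 0 2 = true := by decide +kernel
theorem cand1 : allIn (D.candOK (stepH W) 98280) 2 1 = true := by decide +kernel
theorem cand2 : allIn (D.candOK (stepH W) 98280) 3 1 = true := by decide +kernel
theorem cand3 : allIn (D.candOK (stepH W) 98280) 4 1 = true := by decide +kernel
theorem cand4 : allIn (D.candOK (stepH W) 98280) 5 1 = true := by decide +kernel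
theorem cand5 : allIn (D.candOK (stepH W) 98280) 6 1 = true := by decide +kernel
theorem cand6 : allIn (D.candOK (stepH W) 98280) 7 1 = true := by decide +kernel
theorem cand7 : allIn (D.candOK (stepH W) 98280) 8 1 = true := by decide +kernel
theorem cand8 : allIn (D.candOK (stepH W) 98280) 9 1 = true := by decide +kernel
theorem cand9 : allIn (D.candOK (stepH W) 98280) 10 1 = true := by decide +kernel
theorem cand10 : allIn (D.candOK (stepH W) 98280) 11 1 = true := by decide +kernel
theorem cand11 : allIn (D.candOK (stepH W) 98280) 12 1 = true := by decide +kernel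
theorem cand12 : allIn (D.candOK (stepH W) 98280) 13 1 = true := by decide +kernel
theorem cand13 : allIn (D.candOK (stepH W) 98280) 14 1 = true := by decide +kernel
theorem cand14 : allIn (D.candOK (stepH W) 98280) 15 1 = true := by decide +kernel
theorem cand15 : allIn (D.candOK (stepH W) 98280) 16 1 = true := by decide +kernel
theorem cand16 : allIn (D.candOK (stepH W) 98280) 17 1 = true := by decide +kernel
theorem cand17 : allIn (D.candOK (stepH W) 98280) 18 1 = true := by decide +kernel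
theorem cand18 : allIn (D.candOK (stepH W) 98280) 19 1 = true := by decide +kernel
theorem cand19 : allIn (D.candOK (stepH W) 98280) 20 1 = true := by decide +kernel
theorem cand20 : allIn (D.candOK (stepH W) 98280) 21 1 = true := by decide +kernel
theorem cand21 : allIn (D.candOK (stepH W) 98280) 22 1 = true := by decide +kernel
theorem cand22 : allIn (D.candOK (stepH W) 98280) 23 1 = true := by decide +kernel
theorem cand23 : allIn (D.candOK (stepH W) 98280) 24 1 = true := by decide +kernel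
theorem cand24 : allIn (D.candOK (stepH W) 98280) 25 1 = true := by decide +kernel
theorem cand25 : allIn (D.candOK (stepH W) 98280) 26 1 = true := by decide +kernel
theorem cand26 : allIn (D.candOK (stepH W) 98280) 27 1 = true := by decide +kernel
theorem cand27 : allIn (D.candOK (stepH W) 98280) 28 1 = true := by decide +kernel
theorem cand28 : allIn (D.candOK (stepH W) 98280) 29 1 = true := by decide +kernel
theorem cand29 : allIn (D.candOK (stepH W) 98280) 30 1 = true := by decide +kernel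
theorem cand30 : allIn (D.candOK (stepH W) 98280) 31 1 = true := by decide +kernel

end CfsgLib.MultC.Co1.O
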